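import Mathlib.LinearAlgebra.Isomorphisms
import Mathlib.LinearAlgebra.Dimension.RankNullity
import Mathlib.LinearAlgebra.FiniteDimensional.Lemmas
import Mathlib.RingTheory.Finiteness.Finsupp

/-! # Relative quotients `M / (M ∩ N)` of submodules and their dimensions -/

set_option autoImplicit false
set_option linter.style.haveILetI false

namespace Groth.Agent.Lib.Helper18.LinAlg

open Module

universe u v w

variable {k : Type u} {E : Type v} [Field k] [AddCommGroup E] [Module k E]

/-- The relative quotient `M / (M ∩ N)`. -/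
abbrev relQ (N M : Submodule k E) : Type v := ↥M ⧸ Submodule.comap M.subtype N

/-- A surjection from `M` whose kernel is `M ∩ N` identifies the relative quotient. -/
noncomputable def relQEquiv {Y : Type w} [AddCommGroup Y] [Module k Y] (N M : Submodule k E)
    (φ : ↥M →ₗ[k] Y) (hs : Function.Surjective φ) (hk : ∀ m : M, φ m = 0 ↔ (m : E) ∈ N) :
    relQ N M ≃ₗ[k] Y :=
  (Submodule.quotEquivOfEq _ _ (by
    ext m
    rw [LinearMap.mem_ker, Submodule.mem_comap, hk]
    rfl)).trans (φ.quotKerEquivOfSurjective hs)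

/-- If a surjection has finite-dimensional kernel and image, the source is finite-dimensional and
dimensions add. -/
theorem finrank_of_surjective {X : Type v} {Y : Type w} [AddCommGroup X] [Module k X]
    [AddCommGroup Y] [Module k Y] (f : X →ₗ[k] Y) (hs : Function.Surjective f)
    [FiniteDimensional k (LinearMap.ker f)] [FiniteDimensional k Y] :
    FiniteDimensional k X ∧ finrank k X = finrank k (LinearMap.ker f) + finrank k Y := by
  haveI : FiniteDimensional k (X ⧸ LinearMap.ker f) :=
    Module.Finite.equiv (f.quotKerEquivOfSurjective hs).symm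
  haveI hfin : FiniteDimensional k X := Module.Finite.of_submodule_quotient (LinearMap.ker f)
  refine ⟨hfin, ?_⟩
  have h1 := LinearMap.finrank_range_add_finrank_ker f
  rw [LinearMap.range_eq_top.mpr hs, finrank_top] at h1
  omega

/-- Dimensions of relative quotients add in towers `N₁ ≤ N₂ ≤ M`. -/
theorem relQ_tower (N₁ N₂ M : Submodule k E) (h₁ : N₁ ≤ N₂) (h₂ : N₂ ≤ M)
    [FiniteDimensional k (relQ N₁ N₂)] [FiniteDimensional k (relQ N₂ M)] :
    FiniteDimensional k (relQ N₁ M) ∧
      finrank k (relQ N₁ M) = finrank k (relQ N₁ N₂) + finrank k (relQ N₂ M) := by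
  -- the surjection `M/N₁ → M/N₂`
  let f : relQ N₁ M →ₗ[k] relQ N₂ M :=
    Submodule.mapQ _ _ LinearMap.id (fun m hm => h₁ hm)
  have hf : Function.Surjective f := by
    intro y
    obtain ⟨m, rfl⟩ := Submodule.Quotient.mk_surjective _ y
    exact ⟨Submodule.Quotient.mk m, rfl⟩
  -- the injection `N₂/N₁ → M/N₁`
  let g : relQ N₁ N₂ →ₗ[k] relQ N₁ M :=
    Submodule.mapQ _ _ (Submodule.inclusion h₂) (fun m hm => hm)
  have hg : Function.Injective g := by
    rw [← LinearMap.ker_eq_bot, LinearMap.ker_eq_bot']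
    intro x hx
    obtain ⟨m, rfl⟩ := Submodule.Quotient.mk_surjective _ x
    rw [Submodule.Quotient.mk_eq_zero]
    have : g (Submodule.Quotient.mk m) = Submodule.Quotient.mk (Submodule.inclusion h₂ m) := rfl
    rw [this, Submodule.Quotient.mk_eq_zero] at hx
    exact hx
  have hgf : LinearMap.range g = LinearMap.ker f := by
    ext y
    obtain ⟨m, rfl⟩ := Submodule.Quotient.mk_surjective _ y
    rw [LinearMap.mem_ker]
    have hfm : f (Submodule.Quotient.mk m) = Submodule.Quotient.mk m := rfl
    rw [hfm, Submodule.Quotient.mk_eq_zero]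
    constructor
    · rintro ⟨x, hx⟩
      obtain ⟨n, rfl⟩ := Submodule.Quotient.mk_surjective _ x
      have hgn : g (Submodule.Quotient.mk n) = Submodule.Quotient.mk (Submodule.inclusion h₂ n) := rfl
      rw [hgn, Submodule.Quotient.eq] at hx
      have h3 : ((Submodule.inclusion h₂ n - m : M) : E) ∈ N₁ := hx
      have h4 : (m : E) = (n : E) - ((Submodule.inclusion h₂ n - m : M) : E) := by
        simp
      show (m : E) ∈ N₂
      rw [h4]
      exact N₂.sub_mem n.2 (h₁ h3)
    · intro hm
      exact ⟨Submodule.Quotient.mk ⟨(m : E), hm⟩, rfl⟩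
  haveI : FiniteDimensional k (LinearMap.ker f) := by
    rw [← hgf]; infer_instance
  obtain ⟨hfin, hrk⟩ := finrank_of_surjective f hf
  refine ⟨hfin, ?_⟩
  rw [hrk, ← hgf, LinearMap.finrank_range_of_inj hg]

/-- `relQ N M` is trivial when `M ≤ N`. -/
theorem relQ_subsingleton (N M : Submodule k E) (h : M ≤ N) : Subsingleton (relQ N M) := by
  rw [Submodule.Quotient.subsingleton_iff, eq_top_iff]
  intro m _
  exact h m.2

theorem finrank_relQ_of_le (N M : Submodule k E) (h : M ≤ N) : finrank k (relQ N M) = 0 := by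
  haveI := relQ_subsingleton N M h
  exact finrank_zero_of_subsingleton

/-- If `relQ N M` has dimension zero (and is finite-dimensional) then `M ≤ N`. -/
theorem le_of_finrank_relQ_eq_zero (N M : Submodule k E) [FiniteDimensional k (relQ N M)]
    (h : finrank k (relQ N M) = 0) : M ≤ N := by
  intro m hm
  haveI : Subsingleton (relQ N M) := Module.finrank_zero_iff.mp h
  have h1 : (Submodule.Quotient.mk ⟨m, hm⟩ : relQ N M) = 0 := Subsingleton.elim _ _
  rw [Submodule.Quotient.mk_eq_zero] at h1
  exact h1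

/-- Second isomorphism theorem: `(A₂ + F)/(A₁ + F) ≅ A₂ / (A₁ + A₂ ∩ F)` for `A₁ ≤ A₂`. -/
noncomputable def relQSupEquiv (A₁ A₂ F : Submodule k E) (h : A₁ ≤ A₂) :
    relQ (A₁ ⊔ (A₂ ⊓ F)) A₂ ≃ₗ[k] relQ (A₁ ⊔ F) (A₂ ⊔ F) :=
  relQEquiv (A₁ ⊔ (A₂ ⊓ F)) A₂
    ((Submodule.mkQ _).comp (Submodule.inclusion (le_sup_left : A₂ ≤ A₂ ⊔ F)))
    (by
      intro y
      obtain ⟨⟨m, hm⟩, rfl⟩ := Submodule.Quotient.mk_surjective _ y
      obtain ⟨a, ha, f, hf, rfl⟩ := Submodule.mem_sup.mp hm
      refine ⟨⟨a, ha⟩, ?_⟩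
      rw [LinearMap.comp_apply, Submodule.mkQ_apply, Submodule.Quotient.eq]
      show a - (a + f) ∈ A₁ ⊔ F
      rw [sub_add_cancel_left]
      exact Submodule.mem_sup_right (F.neg_mem hf))
    (by
      intro m
      rw [LinearMap.comp_apply, Submodule.mkQ_apply, Submodule.Quotient.mk_eq_zero]
      show (m : E) ∈ A₁ ⊔ F ↔ (m : E) ∈ A₁ ⊔ A₂ ⊓ F
      constructor
      · intro hm
        obtain ⟨a, ha, f, hf, hsum⟩ := Submodule.mem_sup.mp hm
        refine Submodule.mem_sup.mpr ⟨a, ha, f, ⟨?_, hf⟩, hsum⟩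
        have : f = (m : E) - a := by rw [← hsum]; simp
        rw [this]
        exact A₂.sub_mem m.2 (h ha)
      · intro hm
        exact (sup_le_sup_left inf_le_right A₁) hm)

/-- Second isomorphism theorem: `(A + G)/A ≅ G/(A ∩ G)`. -/
noncomputable def relQSupLeftEquiv (A G : Submodule k E) :
    relQ A G ≃ₗ[k] relQ A (A ⊔ G) :=
  relQEquiv A G
    ((Submodule.mkQ _).comp (Submodule.inclusion (le_sup_right : G ≤ A ⊔ G)))
    (by
      intro y
      obtain ⟨⟨m, hm⟩, rfl⟩ := Submodule.Quotient.mk_surjective _ y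
      obtain ⟨a, ha, f, hf, rfl⟩ := Submodule.mem_sup.mp hm
      refine ⟨⟨f, hf⟩, ?_⟩
      rw [LinearMap.comp_apply, Submodule.mkQ_apply, Submodule.Quotient.eq]
      show f - (a + f) ∈ A
      rw [sub_add_cancel_right]
      exact A.neg_mem ha)
    (by
      intro m
      rw [LinearMap.comp_apply, Submodule.mkQ_apply, Submodule.Quotient.mk_eq_zero]
      rfl)

/-- Transport of relative quotients along an injective linear map. -/
noncomputable def relQComapEquiv {E' : Type w} [AddCommGroup E'] [Module k E'] (ι : E' →ₗ[k] E)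
    (hι : Function.Injective ι) (N M : Submodule k E) (hM : M ≤ LinearMap.range ι) :
    relQ N M ≃ₗ[k] relQ (N.comap ι) (M.comap ι) :=
  (relQEquiv (N.comap ι) (M.comap ι)
    ((Submodule.mkQ _).comp (ι.restrict (p := M.comap ι) (q := M) (fun x hx => hx)))
    (by
      intro y
      obtain ⟨⟨m, hm⟩, rfl⟩ := Submodule.Quotient.mk_surjective _ y
      obtain ⟨x, rfl⟩ := hM hm
      exact ⟨⟨x, hm⟩, rfl⟩)
    (by
      intro m
      rw [LinearMap.comp_apply, Submodule.mkQ_apply, Submodule.Quotient.mk_eq_zero]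
      rfl)).symm

/-- For finite-dimensional `M` and `N ≤ M`: `dim M/N = dim M - dim N`. -/
theorem finrank_relQ_add (N M : Submodule k E) (h : N ≤ M) [FiniteDimensional k M] :
    finrank k (relQ N M) + finrank k N = finrank k M := by
  have h1 := (Submodule.comap M.subtype N).finrank_quotient_add_finrank
  have e : ↥(Submodule.comap M.subtype N) ≃ₗ[k] ↥N := Submodule.comapSubtypeEquivOfLe h
  rw [e.finrank_eq] at h1
  exact h1

end Groth.Agent.Lib.Helper18.LinAlg

namespace Groth.Agent.Lib.Helper18.LinAlg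

open Module

universe u v w

variable {k : Type u} {E : Type v} [Field k] [AddCommGroup E] [Module k E]

/-- Enlarging the denominator keeps finite-dimensionality. -/
theorem finiteDimensional_relQ_of_le (N₁ N₂ M : Submodule k E) (h : N₁ ≤ N₂)
    [FiniteDimensional k (relQ N₁ M)] : FiniteDimensional k (relQ N₂ M) := by
  let f : relQ N₁ M →ₗ[k] relQ N₂ M :=
    Submodule.mapQ _ _ LinearMap.id (fun m hm => h hm)
  have hf : Function.Surjective f := by
    intro y
    obtain ⟨m, rfl⟩ := Submodule.Quotient.mk_surjective _ y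
    exact ⟨Submodule.Quotient.mk m, rfl⟩
  exact Module.Finite.of_surjective f hf

/-- Congruence of relative quotients under equalities of submodules. -/
noncomputable def relQCongr {N N' M M' : Submodule k E} (hN : N = N') (hM : M = M') :
    relQ N M ≃ₗ[k] relQ N' M' := by
  subst hN; subst hM; exact LinearEquiv.refl _ _

end Groth.Agent.Lib.Helper18.LinAlg
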