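import Mathlib.LinearAlgebra.FiniteDimensional.Lemmas
import Mathlib.LinearAlgebra.Dimension.Finite
import Mathlib.Order.Interval.Finset.Nat
import Mathlib.Data.Finset.Sort

/-! # Bases adapted to a flag with one-dimensional steps -/

set_option autoImplicit false
set_option linter.style.haveILetI false

namespace Groth.Agent.Lib.Helper18.LinAlg

open Module

universe u v

variable {k : Type u} {M : Type v} [Field k] [AddCommGroup M] [Module k M]

open scoped Classical in
/-- The jumps of a decreasing sequence of subspaces. -/
noncomputable def jumps (U : ℕ → Submodule k M) (N : ℕ) : Finset ℕ :=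
  (Finset.range N).filter fun j => U (j + 1) ≠ U j

open scoped Classical in
theorem finrank_eq_card_jumps (U : ℕ → Submodule k M) (N : ℕ) (hanti : Antitone U)
    (hN : U N = ⊥) [FiniteDimensional k (U 0)]
    (hdrop : ∀ j, finrank k (U j) ≤ finrank k (U (j + 1)) + 1) :
    ∀ t j, j + t = N → finrank k (U j) = ((jumps U N).filter fun i => j ≤ i).card := by
  intro t
  induction t with
  | zero =>
    intro j hj
    have : j = N := by omega
    subst this
    rw [hN, finrank_bot]
    symm
    rw [Finset.card_eq_zero, Finset.filter_eq_empty_iff]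
    intro i hi
    have := Finset.mem_range.mp (Finset.mem_filter.mp hi).1
    omega
  | succ t ih =>
    intro j hj
    have ih' := ih (j + 1) (by omega)
    haveI : FiniteDimensional k (U j) :=
      Submodule.finiteDimensional_of_le (hanti (Nat.zero_le j))
    have hle : U (j + 1) ≤ U j := hanti (Nat.le_succ j)
    have hsplit : (jumps U N).filter (fun i => j ≤ i) =
        (if j ∈ jumps U N then {j} else ∅) ∪ (jumps U N).filter (fun i => j + 1 ≤ i) := by
      ext i
      by_cases hjJ : j ∈ jumps U N
      · simp only [hjJ, if_true, Finset.mem_union, Finset.mem_singleton, Finset.mem_filter]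
        constructor
        · rintro ⟨h1, h2⟩
          by_cases h : i = j
          · exact Or.inl h
          · exact Or.inr ⟨h1, by omega⟩
        · rintro (rfl | ⟨h1, h2⟩)
          · exact ⟨hjJ, le_rfl⟩
          · exact ⟨h1, by omega⟩
      · simp only [hjJ, if_false, Finset.empty_union, Finset.mem_filter]
        constructor
        · rintro ⟨h1, h2⟩
          refine ⟨h1, ?_⟩
          by_contra h
          have : i = j := by omega
          exact hjJ (this ▸ h1)
        · rintro ⟨h1, h2⟩
          exact ⟨h1, by omega⟩
    rw [hsplit]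
    by_cases hjJ : j ∈ jumps U N
    · rw [if_pos hjJ, Finset.card_union_of_disjoint (by
        rw [Finset.disjoint_left]
        intro i hi hi'
        rw [Finset.mem_singleton] at hi
        have := (Finset.mem_filter.mp hi').2
        omega), Finset.card_singleton, ← ih']
      have hne : U (j + 1) ≠ U j := (Finset.mem_filter.mp hjJ).2
      have hlt : U (j + 1) < U j := lt_of_le_of_ne hle hne
      have := Submodule.finrank_lt_finrank_of_lt hlt
      have := hdrop j
      omega
    · rw [if_neg hjJ, Finset.empty_union, ← ih']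
      have : U (j + 1) = U j := by
        by_contra hne
        exact hjJ (Finset.mem_filter.mpr ⟨Finset.mem_range.mpr (by omega), hne⟩)
      rw [this]

open scoped Classical in
/-- A family adapted to a flag with steps of dimension at most one. -/
theorem exists_flag_family (U : ℕ → Submodule k M) (N : ℕ) (hanti : Antitone U)
    (hN : U N = ⊥) [FiniteDimensional k (U 0)]
    (hdrop : ∀ j, finrank k (U j) ≤ finrank k (U (j + 1)) + 1) :
    ∃ (b : Fin (finrank k (U 0)) → M) (m : Fin (finrank k (U 0)) → ℕ),
      (∀ i, b i ∈ U (m i)) ∧ (∀ i, b i ∉ U (m i + 1)) ∧ StrictMono m ∧ (∀ i, m i < N) ∧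
      ∑ i, m i = ∑ j ∈ Finset.range N, finrank k (U (j + 1)) := by
  have hcard : (jumps U N).card = finrank k (U 0) := by
    rw [finrank_eq_card_jumps U N hanti hN hdrop N 0 (by omega)]
    congr 1
    ext i; simp
  let e := (jumps U N).orderIsoOfFin hcard
  let m : Fin (finrank k (U 0)) → ℕ := fun i => (e i : ℕ)
  have hmJ : ∀ i, m i ∈ jumps U N := fun i => (e i).2
  have hex : ∀ i, ∃ c : M, c ∈ U (m i) ∧ c ∉ U (m i + 1) := by
    intro i
    have hne : U (m i + 1) ≠ U (m i) := (Finset.mem_filter.mp (hmJ i)).2
    have hle : U (m i + 1) ≤ U (m i) := hanti (Nat.le_succ _)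
    have hnle : ¬ U (m i) ≤ U (m i + 1) := fun h => hne (le_antisymm hle h)
    obtain ⟨c, hc, hc'⟩ := Set.not_subset.mp hnle
    exact ⟨c, hc, hc'⟩
  choose b hb1 hb2 using hex
  have hmono : StrictMono m := fun i j hij => by
    have := e.strictMono hij
    exact this
  refine ⟨b, m, hb1, hb2, hmono, fun i => Finset.mem_range.mp (Finset.mem_filter.mp (hmJ i)).1, ?_⟩
  -- the sum of the jumps
  have hsum1 : ∑ i, m i = ∑ j ∈ jumps U N, j := by
    have := Finset.sum_coe_sort (jumps U N) (fun j => j)
    rw [← this]
    exact Fintype.sum_equiv e.toEquiv _ _ (fun i => rfl)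
  rw [hsum1]
  have hfr : ∀ j ∈ Finset.range N, finrank k (U (j + 1)) =
      ∑ i ∈ jumps U N, if j + 1 ≤ i then 1 else 0 := by
    intro j hj
    have hj' := Finset.mem_range.mp hj
    rw [finrank_eq_card_jumps U N hanti hN hdrop (N - (j + 1)) (j + 1) (by omega),
      Finset.card_filter]
  rw [Finset.sum_congr rfl hfr, Finset.sum_comm]
  refine Finset.sum_congr rfl fun i hi => ?_
  have hiN : i < N := Finset.mem_range.mp (Finset.mem_filter.mp hi).1
  rw [← Finset.card_filter]
  have : (Finset.range N).filter (fun j => j + 1 ≤ i) = Finset.range i := by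
    ext j
    simp only [Finset.mem_filter, Finset.mem_range]
    omega
  rw [this, Finset.card_range]

end Groth.Agent.Lib.Helper18.LinAlg

namespace Groth.Agent.Lib.Helper18.LinAlg

open Module

universe u v

variable {k : Type u} {M : Type v} [Field k] [AddCommGroup M] [Module k M]

/-- Variant of `exists_flag_family` with a prescribed index type. -/
theorem exists_flag_family' (U : ℕ → Submodule k M) (N : ℕ) (hanti : Antitone U)
    (hN : U N = ⊥) [FiniteDimensional k (U 0)]
    (hdrop : ∀ j, finrank k (U j) ≤ finrank k (U (j + 1)) + 1) (n : ℕ)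
    (hn : finrank k (U 0) = n) :
    ∃ (b : Fin n → M) (m : Fin n → ℕ),
      (∀ i, b i ∈ U (m i)) ∧ (∀ i, b i ∉ U (m i + 1)) ∧ StrictMono m ∧ (∀ i, m i < N) ∧
      ∑ i, m i = ∑ j ∈ Finset.range N, finrank k (U (j + 1)) := by
  subst hn
  exact exists_flag_family U N hanti hN hdrop

end Groth.Agent.Lib.Helper18.LinAlg
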